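import Cfsg.Agent.H360.L34.Nine
import Cfsg.Agent.H288.L34.BrkDef

/-!
# S5917, type (D), lemma (B'): `[N, N]` in a module of the other type (helper818)

`line`: two modules `N = φ(Herm)` of type `b` and `N'` of type `!b`, `[N, N] ≤ N'`, `sq n + n ∈ N'` for `n ∈ N`;
then `[φ d1, φ d2] = 0`.
-/

set_option autoImplicit false
set_option linter.unusedSimpArgs false
set_option linter.unusedTactic false
set_option linter.unreachableTactic false
set_option linter.unusedVariables false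

namespace Cfsg.Agent.H818.L34

open Matrix Cfsg.Agent.H691.L34 Cfsg.Agent.H288.L34 Cfsg.Agent.H360.L34

section
variable {F : Type} [Field F]

/-- upper unitriangular -/
def up (a b c : F) : G3 F := ⟨!![1, a, c; 0, 1, b; 0, 0, 1], by simp [Matrix.det_fin_three]⟩

/-- lower unitriangular -/
def dn (a b c : F) : G3 F := ⟨!![1, 0, 0; a, 1, 0; c, b, 1], by simp [Matrix.det_fin_three]⟩

/-- `e1 → e2 → e3 → e1` -/
def pc : G3 F := ⟨!![0, 0, 1; 1, 0, 0; 0, 1, 0], by simp [Matrix.det_fin_three]⟩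

/-- diagonal matrix units -/
def E1 : M3 F := !![1, 0, 0; 0, 0, 0; 0, 0, 0]
def E2 : M3 F := !![0, 0, 0; 0, 1, 0; 0, 0, 0]
def E3 : M3 F := !![0, 0, 0; 0, 0, 0; 0, 0, 1]
/-- the rank-one matrix of `e1 + c e2` -/
def X1 (c : F) : M3 F := !![1, c ^ 2, 0; c, c ^ 3, 0; 0, 0, 0]

theorem hact_ap (g : G3 F) (X : M3 F) (i j : Fin 3) : hact g X i j =
    (g.1 i 0 * X 0 0 + g.1 i 1 * X 1 0 + g.1 i 2 * X 2 0) * (g.1 j 0) ^ 2 +
    (g.1 i 0 * X 0 1 + g.1 i 1 * X 1 1 + g.1 i 2 * X 2 1) * (g.1 j 1) ^ 2 +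
    (g.1 i 0 * X 0 2 + g.1 i 1 * X 1 2 + g.1 i 2 * X 2 2) * (g.1 j 2) ^ 2 := by
  unfold hact ct
  rw [Matrix.mul_apply, Fin.sum_univ_three, Matrix.mul_apply, Fin.sum_univ_three, Matrix.mul_apply, Fin.sum_univ_three,
    Matrix.mul_apply, Fin.sum_univ_three]
  rfl

theorem hfe {X : M3 F} (hX : HF X) (i j : Fin 3) : (X j i) ^ 2 = X i j := congrFun (congrFun hX i) j

theorem HF_of {X : M3 F} (h : ∀ i j, (X j i) ^ 2 = X i j) : HF X := by
  unfold HF
  ext i j
  exact h i j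

theorem HF_E1 : HF (E1 : M3 F) := HF_of fun i j => by fin_cases i <;> fin_cases j <;> simp [E1]
theorem HF_E2 : HF (E2 : M3 F) := HF_of fun i j => by fin_cases i <;> fin_cases j <;> simp [E2]
theorem HF_E3 : HF (E3 : M3 F) := HF_of fun i j => by fin_cases i <;> fin_cases j <;> simp [E3]

theorem HF_X1 (h4 : ∀ a : F, a ^ 4 = a) (c : F) : HF (X1 c) := HF_of fun i j => by
  have h := h4 c
  fin_cases i <;> fin_cases j <;> simp [X1] <;> first | linear_combination h | linear_combination c ^ 2 * h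

theorem row_d21 {w : F} (hw : w ^ 2 + w + 1 = 0) {Z : M3 F} (h : ∀ a, hact (dn a 0 0) Z = Z) (hch : ∀ a : F, a + a = 0) :
    ∀ k, Z 0 k = 0 := by
  have h1 := congrFun (congrFun (h 1) 0) 1
  have h2 := congrFun (congrFun (h 1) 1) 2
  have h3 := congrFun (congrFun (h 1) 1) 1
  have h4 := congrFun (congrFun (h w) 1) 1
  rw [hact_ap] at h1 h2 h3 h4
  simp [dn] at h1 h2 h3 h4
  have h0 : Z 0 0 = 0 := by linear_combination h1
  have h5 : Z 0 1 = 0 := by
    rw [h0] at h3 h4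
    have e1 : Z 0 1 + Z 1 0 = 0 := by linear_combination h3
    have e2 : w * Z 0 1 + w ^ 2 * Z 1 0 = 0 := by linear_combination h4
    linear_combination (-1 : F) * e2 + w ^ 2 * e1 - (Z 0 1) * hw + (hch w) * Z 0 1 + hch 1 * Z 0 1
  have h6 : Z 0 2 = 0 := by linear_combination h2
  intro k
  fin_cases k
  · exact h0
  · exact h5
  · exact h6

theorem row_d32 {w : F} (hw : w ^ 2 + w + 1 = 0) {Z : M3 F} (h : ∀ a, hact (dn 0 a 0) Z = Z) (hch : ∀ a : F, a + a = 0) :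
    ∀ k, Z 1 k = 0 := by
  have h1 := congrFun (congrFun (h 1) 1) 2
  have h2 := congrFun (congrFun (h 1) 2) 0
  have h3 := congrFun (congrFun (h 1) 2) 2
  have h4 := congrFun (congrFun (h w) 2) 2
  rw [hact_ap] at h1 h2 h3 h4
  simp [dn] at h1 h2 h3 h4
  have h0 : Z 1 1 = 0 := by linear_combination h1
  have h5 : Z 1 2 = 0 := by
    rw [h0] at h3 h4
    have e1 : Z 1 2 + Z 2 1 = 0 := by linear_combination h3
    have e2 : w * Z 1 2 + w ^ 2 * Z 2 1 = 0 := by linear_combination h4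
    linear_combination (-1 : F) * e2 + w ^ 2 * e1 - (Z 1 2) * hw + (hch w) * Z 1 2 + hch 1 * Z 1 2
  have h6 : Z 1 0 = 0 := by linear_combination h2
  intro k
  fin_cases k
  · exact h6
  · exact h0
  · exact h5

theorem row_d31 {w : F} (hw : w ^ 2 + w + 1 = 0) {Z : M3 F} (h : ∀ a, hact (dn 0 0 a) Z = Z) (hch : ∀ a : F, a + a = 0) :
    ∀ k, Z 0 k = 0 := by
  have h1 := congrFun (congrFun (h 1) 0) 2
  have h2 := congrFun (congrFun (h 1) 2) 1
  have h3 := congrFun (congrFun (h 1) 2) 2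
  have h4 := congrFun (congrFun (h w) 2) 2
  rw [hact_ap] at h1 h2 h3 h4
  simp [dn] at h1 h2 h3 h4
  have h0 : Z 0 0 = 0 := by linear_combination h1
  have h5 : Z 0 2 = 0 := by
    rw [h0] at h3 h4
    have e1 : Z 0 2 + Z 2 0 = 0 := by linear_combination h3
    have e2 : w * Z 0 2 + w ^ 2 * Z 2 0 = 0 := by linear_combination h4
    linear_combination (-1 : F) * e2 + w ^ 2 * e1 - (Z 0 2) * hw + (hch w) * Z 0 2 + hch 1 * Z 0 2
  have h6 : Z 0 1 = 0 := by linear_combination h2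
  intro k
  fin_cases k
  · exact h0
  · exact h6
  · exact h5

theorem row_u23 {w : F} (hw : w ^ 2 + w + 1 = 0) {Z : M3 F} (h : ∀ a, hact (up 0 a 0) Z = Z) (hch : ∀ a : F, a + a = 0) :
    ∀ k, Z 2 k = 0 := by
  have h1 := congrFun (congrFun (h 1) 2) 1
  have h2 := congrFun (congrFun (h 1) 1) 0
  have h3 := congrFun (congrFun (h 1) 1) 1
  have h4 := congrFun (congrFun (h w) 1) 1
  rw [hact_ap] at h1 h2 h3 h4
  simp [up] at h1 h2 h3 h4
  have h0 : Z 2 2 = 0 := by linear_combination h1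
  have h5 : Z 2 1 = 0 := by
    rw [h0] at h3 h4
    have e1 : Z 2 1 + Z 1 2 = 0 := by linear_combination h3
    have e2 : w * Z 2 1 + w ^ 2 * Z 1 2 = 0 := by linear_combination h4
    linear_combination (-1 : F) * e2 + w ^ 2 * e1 - (Z 2 1) * hw + (hch w) * Z 2 1 + hch 1 * Z 2 1
  have h6 : Z 2 0 = 0 := by linear_combination h2
  intro k
  fin_cases k
  · exact h6
  · exact h5
  · exact h0


theorem it_u12 (hch : ∀ a : F, a + a = 0) (a : F) : it (up a 0 0) = dn a 0 0 := by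
  apply it_eq
  have h := hch a
  ext i j
  fin_cases i <;> fin_cases j <;> simp [up, dn, Matrix.mul_apply, Fin.sum_univ_three, h]

theorem it_u23 (hch : ∀ a : F, a + a = 0) (a : F) : it (up 0 a 0) = dn 0 a 0 := by
  apply it_eq
  have h := hch a
  ext i j
  fin_cases i <;> fin_cases j <;> simp [up, dn, Matrix.mul_apply, Fin.sum_univ_three, h]

theorem it_u13 (hch : ∀ a : F, a + a = 0) (a : F) : it (up 0 0 a) = dn 0 0 a := by
  apply it_eq
  have h := hch a
  ext i j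
  fin_cases i <;> fin_cases j <;> simp [up, dn, Matrix.mul_apply, Fin.sum_univ_three, h]

theorem it_d32 (hch : ∀ a : F, a + a = 0) (a : F) : it (dn 0 a 0) = up 0 a 0 := by
  apply it_eq
  have h := hch a
  ext i j
  fin_cases i <;> fin_cases j <;> simp [up, dn, Matrix.mul_apply, Fin.sum_univ_three, h]

theorem it_d21 (hch : ∀ a : F, a + a = 0) (a : F) : it (dn a 0 0) = up a 0 0 := by
  apply it_eq
  have h := hch a
  ext i j
  fin_cases i <;> fin_cases j <;> simp [up, dn, Matrix.mul_apply, Fin.sum_univ_three, h]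

theorem h_u12 (a : F) : hact (up a 0 0) (E1 : M3 F) = E1 := by
  ext i j
  rw [hact_ap]
  fin_cases i <;> fin_cases j <;> simp [up, E1]

theorem h_u23 (a : F) : hact (up 0 a 0) (E1 : M3 F) = E1 := by
  ext i j
  rw [hact_ap]
  fin_cases i <;> fin_cases j <;> simp [up, E1]

theorem h_d32 (a : F) : hact (dn 0 a 0) (E1 : M3 F) = E1 := by
  ext i j
  rw [hact_ap]
  fin_cases i <;> fin_cases j <;> simp [dn, E1]

theorem h_u13 (a : F) : hact (up 0 0 a) (E1 : M3 F) = E1 := by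
  ext i j
  rw [hact_ap]
  fin_cases i <;> fin_cases j <;> simp [up, E1]

theorem h2_u13 (a : F) : hact (up 0 0 a) (E2 : M3 F) = E2 := by
  ext i j
  rw [hact_ap]
  fin_cases i <;> fin_cases j <;> simp [up, E2]

theorem h2_u23 (a : F) : hact (up 0 a 0) (E2 : M3 F) = E2 := by
  ext i j
  rw [hact_ap]
  fin_cases i <;> fin_cases j <;> simp [up, E2]

theorem h2_d21 (a : F) : hact (dn a 0 0) (E2 : M3 F) = E2 := by
  ext i j
  rw [hact_ap]
  fin_cases i <;> fin_cases j <;> simp [dn, E2]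

theorem h1_d21 (a : F) : hact (dn a 0 0) (E1 : M3 F) = X1 a := by
  ext i j
  rw [hact_ap]
  fin_cases i <;> fin_cases j <;> simp [dn, E1, X1]
  ring

theorem pc1 : hact pc (E1 : M3 F) = E2 := by
  ext i j
  rw [hact_ap]
  fin_cases i <;> fin_cases j <;> simp [pc, E1, E2]

theorem pc2 : hact pc (E2 : M3 F) = E3 := by
  ext i j
  rw [hact_ap]
  fin_cases i <;> fin_cases j <;> simp [pc, E3, E2]

theorem pc3 : hact pc (E3 : M3 F) = E1 := by
  ext i j
  rw [hact_ap]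
  fin_cases i <;> fin_cases j <;> simp [pc, E1, E3]

theorem h_E3 (a : F) {Y : M3 F} (hY : ∀ i j, (i, j) ≠ (2, 2) → Y i j = 0) : hact (up a 0 0) Y = Y := by
  have e00 := hY 0 0 (by decide)
  have e01 := hY 0 1 (by decide)
  have e02 := hY 0 2 (by decide)
  have e10 := hY 1 0 (by decide)
  have e11 := hY 1 1 (by decide)
  have e12 := hY 1 2 (by decide)
  have e20 := hY 2 0 (by decide)
  have e21 := hY 2 1 (by decide)
  ext i j
  rw [hact_ap]
  fin_cases i <;> fin_cases j <;> simp [up, e00, e01, e02, e10, e11, e12, e20, e21]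

theorem sum_X (hch : ∀ a : F, a + a = 0) {w : F} (hw : w ^ 2 + w + 1 = 0) :
    E2 + (X1 0 + (X1 1 + (X1 w + X1 (w ^ 2)))) = (0 : M3 F) := by
  have h0 := hch 1
  have h1 : w ^ 3 = 1 := by linear_combination (w - 1) * hw
  have h2 : w ^ 4 = w := by linear_combination w * h1
  have h3 : w ^ 6 = 1 := by linear_combination (w ^ 3 + 1) * h1
  have h5 : w ^ 2 = w + 1 := by linear_combination hw - hch (w + 1)
  ext i j
  fin_cases i <;> fin_cases j <;> simp [E2, X1]
  · linear_combination 2 * h0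
  · ring_nf
    linear_combination hw + h2
  · linear_combination hw
  · ring_nf
    linear_combination h1 + h3 + 2 * h0

theorem d1_eq : (d1 : M3 F) = E1 + E2 := by
  ext i j
  fin_cases i <;> fin_cases j <;> simp [d1, E1, E2]

theorem d2_eq : (d2 : M3 F) = E2 + E3 := by
  ext i j
  fin_cases i <;> fin_cases j <;> simp [d2, E3, E2]

end

section core
variable {F : Type} [Field F] [Fintype F] {V : Type} [AddCommGroup V] [Module (ZMod 2) V]

theorem core (hF : Fintype.card F = 4) (σ : G3 F → V →ₗ[ZMod 2] V) {β : V →ₗ[ZMod 2] V →ₗ[ZMod 2] V}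
    (halt : ∀ x, β x x = 0) (hinvb : ∀ g x y, σ g (β x y) = β (σ g x) (σ g y)) {sq : V → V}
    (had : ∀ x y, β (sq x) y = β x (β x y)) (hinv : ∀ g x, σ g (sq x) = sq (σ g x)) {φ φ' : M3 F → V}
    (h1 : ∀ X Y, HF X → HF Y → φ (X + Y) = φ X + φ Y)
    (h3 : ∀ g X, HF X → σ g (φ X) = φ (hact g X))
    (k1 : ∀ X Y, HF X → HF Y → φ' (X + Y) = φ' X + φ' Y) (k2 : ∀ X, HF X → φ' X = 0 → X = 0)
    (k3 : ∀ g X, HF X → σ g (φ' X) = φ' (hact (it g) X))
    (hbr : ∀ X Y, HF X → HF Y → ∃ Z, HF Z ∧ φ' Z = β (φ X) (φ Y))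
    (hsq : ∀ X, HF X → ∃ Z, HF Z ∧ φ' Z = sq (φ X) + φ X) : β (φ d1) (φ d2) = 0 := by
  obtain ⟨e⟩ := exists_e hF
  have hc : ∀ a : F, a + a = 0 := hch hF
  obtain ⟨w, hw⟩ : ∃ w : F, w ^ 2 + w + 1 = 0 := ⟨_, ew e⟩
  have h4 : ∀ a : F, a ^ 4 = a := fun a => by
    have := FiniteField.pow_card a
    rwa [hF] at this
  have vs : ∀ x y : V, x + y = 0 → x = y := fun x y h => by
    have h' : x + y + y = y := by rw [h, zero_add]
    rwa [add_assoc, vv, add_zero] at h'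
  have bsym : ∀ x y : V, β x y = β y x := fun x y => by
    have h := halt (x + y)
    simp only [map_add, LinearMap.add_apply, halt, zero_add, add_zero] at h
    first | exact vs _ _ h | exact (vs _ _ h).symm
  have p0 : φ 0 = 0 := by
    have h := h1 0 0 HF_zero HF_zero
    rw [add_zero] at h
    rw [h, vv]
  have q0 : φ' 0 = 0 := by
    have h := k1 0 0 HF_zero HF_zero
    rw [add_zero] at h
    rw [h, vv]
  have inj : ∀ X Y, HF X → HF Y → φ' X = φ' Y → X = Y := fun X Y hX hY h => by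
    have h5 := k2 (X + Y) (HF_add X Y hc hX hY) (by rw [k1 X Y hX hY, h, vv])
    ext i j
    have h6 : X i j + Y i j = 0 := congrFun (congrFun h5 i) j
    linear_combination h6 - hc (Y i j)
  -- (a)
  have a1 : sq (φ E1) = φ E1 := by
    obtain ⟨Z, hZ, hZ'⟩ := hsq E1 HF_E1
    have key : ∀ g, hact g (E1 : M3 F) = E1 → hact (it g) Z = Z := fun g hg => by
      apply inj _ _ (HF_hact hF _ hZ) hZ
      rw [← k3 g Z hZ, hZ', map_add, hinv, h3 g _ HF_E1, hg]
    have r1 := row_d21 hw (fun a => by rw [← it_u12 hc]; exact key _ (h_u12 a)) hc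
    have r2 := row_d32 hw (fun a => by rw [← it_u23 hc]; exact key _ (h_u23 a)) hc
    have r3 := row_u23 hw (fun a => by rw [← it_d32 hc]; exact key _ (h_d32 a)) hc
    have hZ0 : Z = 0 := by
      ext i j
      fin_cases i
      · exact r1 j
      · exact r2 j
      · exact r3 j
    rw [hZ0, q0] at hZ'
    exact vs _ _ hZ'.symm
  have a2 : ∀ g, sq (φ (hact g E1)) = φ (hact g E1) := fun g => by
    rw [← h3 g _ HF_E1, ← hinv, a1]
  have a3 : sq (φ E2) = φ E2 := by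
    have := a2 pc
    rwa [pc1] at this
  have a4 : ∀ c, sq (φ (X1 c)) = φ (X1 c) := fun c => by
    have := a2 (dn c 0 0)
    rwa [h1_d21] at this
  -- (b)
  obtain ⟨Y, hY, hY'⟩ := hbr E1 E2 HF_E1 HF_E2
  have key : ∀ g, hact g (E1 : M3 F) = E1 → hact g (E2 : M3 F) = E2 → hact (it g) Y = Y := fun g hg hg' => by
    apply inj _ _ (HF_hact hF _ hY) hY
    rw [← k3 g Y hY, hY', hinvb, h3 g _ HF_E1, hg, h3 g _ HF_E2, hg']
  have r1 := row_d31 hw (fun a => by rw [← it_u13 hc]; exact key _ (h_u13 a) (h2_u13 a)) hc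
  have r2 := row_d32 hw (fun a => by rw [← it_u23 hc]; exact key _ (h_u23 a) (h2_u23 a)) hc
  have hYE : ∀ i j, (i, j) ≠ (2, 2) → Y i j = 0 := by
    intro i j hij
    fin_cases i
    · exact r1 j
    · exact r2 j
    · fin_cases j
      · show Y 2 0 = 0
        rw [← hfe hY 2 0, r1 2]; ring
      · show Y 2 1 = 0
        rw [← hfe hY 2 1, r2 2]; ring
      · exact absurd rfl hij
  have b1 : ∀ c, β (φ (X1 c)) (φ E2) = φ' Y := fun c => by
    rw [← h1_d21, ← h3 _ _ HF_E1]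
    conv_lhs => rw [← h2_d21 c, ← h3 _ _ HF_E2, ← hinvb, ← hY', k3 _ _ hY, it_d21 hc, h_E3 c hYE]
  -- (c)
  have c1 : ∀ c, β (φ (X1 c)) (φ' Y) = φ' Y := fun c => by
    conv_lhs => rw [← b1 c, ← had, a4, b1 c]
  have c2 : β (φ E2) (φ' Y) = φ' Y := by
    have : β (φ E2) (φ E1) = φ' Y := by rw [bsym]; exact hY'.symm
    conv_lhs => rw [← this, ← had, a3, this]
  have c3 : φ' Y = 0 := by
    have hs : φ E2 + (φ (X1 0) + (φ (X1 1) + (φ (X1 w) + φ (X1 (w ^ 2))))) = 0 := by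
      have g0 := HF_X1 h4 (0 : F)
      have g1 := HF_X1 h4 (1 : F)
      have g2 := HF_X1 h4 w
      have g3 := HF_X1 h4 (w ^ 2)
      have g4 := HF_add _ _ hc g2 g3
      have g5 := HF_add _ _ hc g1 g4
      have g6 := HF_add _ _ hc g0 g5
      rw [← h1 _ _ g2 g3, ← h1 _ _ g1 g4, ← h1 _ _ g0 g5, ← h1 _ _ HF_E2 g6, sum_X hc hw, p0]
    have ht := congrArg (fun x => β x (φ' Y)) hs
    simp only [map_add, LinearMap.add_apply, c1, c2, map_zero, LinearMap.zero_apply] at ht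
    rwa [vv, add_zero, vv, add_zero] at ht
  -- (d)
  have d12 : β (φ E1) (φ E2) = 0 := by rw [← hY', c3]
  have d23 : β (φ E2) (φ E3) = 0 := by
    have h := hinvb pc (φ E1) (φ E2)
    rw [d12, map_zero, h3 _ _ HF_E1, h3 _ _ HF_E2, pc1, pc2] at h
    exact h.symm
  have d31 : β (φ E3) (φ E1) = 0 := by
    have h := hinvb pc (φ E2) (φ E3)
    rw [d23, map_zero, h3 _ _ HF_E2, h3 _ _ HF_E3, pc2, pc3] at h
    exact h.symm
  rw [d1_eq, d2_eq, h1 _ _ HF_E1 HF_E2, h1 _ _ HF_E2 HF_E3]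
  simp only [map_add, LinearMap.add_apply]
  rw [d12, halt, d23, bsym (φ E1) (φ E3), d31]
  simp

/-- **(B1)** -/
theorem line (hF : Fintype.card F = 4) {ρ : Representation (ZMod 2) (G3 F) V} {β : V →ₗ[ZMod 2] V →ₗ[ZMod 2] V}
    (hβ : Brk ρ β) {sq : V → V} (had : ∀ x y, β (sq x) y = β x (β x y)) (hinv : ∀ g x, ρ g (sq x) = sq (ρ g x))
    {b : Bool} {φ : M3 F → V} (h1 : ∀ X Y, HF X → HF Y → φ (X + Y) = φ X + φ Y)
    (h3 : ∀ (g : G3 F) X, HF X → ρ g (φ X) = φ (hact (tw b g) X))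
    {N' : Submodule (ZMod 2) V} (hN' : IsNine ρ (!b) N')
    (hbr : ∀ X Y, HF X → HF Y → β (φ X) (φ Y) ∈ N') (hsq : ∀ X, HF X → sq (φ X) + φ X ∈ N') :
    β (φ d1) (φ d2) = 0 := by
  obtain ⟨φ', k1, k2, k3, k4⟩ := hN'
  refine core hF (σ := fun g => ρ (tw b g)) (φ := φ) (φ' := φ') hβ.alt (fun g x y => hβ.inv _ x y) had
    (fun g x => hinv _ x) h1 (fun g X hX => ?_) k1 k2 (fun g X hX => ?_) (fun X Y hX hY => ?_) (fun X hX => ?_)
  · show ρ (tw b g) (φ X) = _
    rw [h3 _ _ hX, tw_tw]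
  · show ρ (tw b g) (φ' X) = _
    rw [k4 _ _ hX]
    cases b <;> rfl
  · exact (k3 _).1 (hbr X Y hX hY)
  · exact (k3 _).1 (hsq X hX)

end core

end Cfsg.Agent.H818.L34
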